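import Groth.Agent.Lib.Azumaya.BaseChange
import Mathlib.Algebra.Azumaya.Matrix
import Mathlib.LinearAlgebra.Contraction
import Mathlib.LinearAlgebra.Matrix.ToLin
import Mathlib.RingTheory.Ideal.Quotient.Basic

set_option autoImplicit false

/-!
# Azumaya: fibrewise criterion, `End P`, tensor products
-/

universe u v w w'

open scoped TensorProduct
open MulOpposite

namespace GrothLib.Azu

variable (R : Type u) [CommRing R] (A : Type w) [Ring A] [Algebra R A]

/-- Fibrewise criterion at maximal ideals. -/
theorem isAzumaya_of_forall_maximal [Module.Finite R A] [Module.Projective R A]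
    (h : ∀ (m : Ideal R), m.IsMaximal → ∃ (L : Type v) (_ : CommRing L) (_ : Algebra R L),
      Nontrivial L ∧ m ≤ RingHom.ker (algebraMap R L) ∧ IsAzumaya L (L ⊗[R] A)) :
    IsAzumaya R A := by
  have : Module.FaithfullyFlat R A := by
    refine ⟨fun {m} hm htop => ?_⟩
    obtain ⟨L, _, _, _, hmL, _⟩ := h m hm
    have := faithfullyFlat_of_isAzumaya L (L ⊗[R] A)
    have h0 : ∀ z : L ⊗[R] A, z = 0 := by
      intro z
      induction z using TensorProduct.induction_on with
      | zero => rfl
      | add x y hx hy => rw [hx, hy, add_zero]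
      | tmul s a =>
        have ha : a ∈ m • (⊤ : Submodule R A) := by rw [htop]; trivial
        clear * - ha hmL
        induction ha using Submodule.smul_induction_on' with
        | smul r hr x _ =>
          rw [TensorProduct.tmul_smul, ← algebraMap_smul L r (s ⊗ₜ[R] x),
            RingHom.mem_ker.1 (hmL hr), zero_smul]
        | add x _ y _ hx hy => rw [TensorProduct.tmul_add, hx, hy, add_zero]
    obtain ⟨q, hq⟩ := Ideal.exists_maximal L
    exact Module.FaithfullyFlat.submodule_ne_top (M := L ⊗[R] A) hq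
      (eq_top_iff.2 fun z _ => (h0 z).symm ▸ zero_mem _)
  have := faithfulSMul_of_faithfullyFlat (R := R) A
  have := finite_tensor_mop R A
  obtain ⟨hf, hp⟩ := finite_projective_end R A
  refine ⟨bijective_of_forall_maximal.{u, w, w, v} (AlgHom.mulLeftRight R A).toLinearMap
    fun m hm => ?_⟩
  obtain ⟨L, _, _, hn, hmL, hA⟩ := h m hm
  exact ⟨L, inferInstance, inferInstance, hn, hmL, (bij_baseChange_iff R L A).1 hA.bij⟩

/-- Transitivity of base change for (noncommutative) algebras. -/
noncomputable def cancelAlgEquiv (L : Type v) [CommRing L] [Algebra R L]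
    (S : Type w') [CommRing S] [Algebra R S] [Algebra S L] [IsScalarTower R S L] :
    L ⊗[S] (S ⊗[R] A) ≃ₐ[L] L ⊗[R] A :=
  (AlgEquiv.ofLinearEquiv (TensorProduct.AlgebraTensorModule.cancelBaseChange R S L L A).symm
    (by simp [Algebra.TensorProduct.one_def])
    (LinearMap.map_mul_of_map_mul_tmul (fun _ _ _ _ ↦ by simp))).symm

theorem isAzumaya_baseChange_of_tower (L : Type v) [CommRing L] [Algebra R L]
    (S : Type w') [CommRing S] [Algebra R S] [Algebra S L] [IsScalarTower R S L]
    [IsAzumaya S (S ⊗[R] A)] : IsAzumaya L (L ⊗[R] A) := by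
  have := isAzumaya_baseChange S L (S ⊗[R] A)
  exact IsAzumaya.of_AlgEquiv L _ _ (cancelAlgEquiv R A L S)

variable (B : Type w') [Ring B] [Algebra R B]

theorem isAzumaya_tensor_of_free [Module.Free R A] [Module.Free R B] [IsAzumaya R A]
    [IsAzumaya R B] : IsAzumaya R (A ⊗[R] B) := by
  have := faithfullyFlat_of_isAzumaya R A
  have := faithfullyFlat_of_isAzumaya R B
  have : FaithfulSMul R (A ⊗[R] B) := by
    rcases subsingleton_or_nontrivial R with hR | hR
    · exact ⟨fun {a b} _ => Subsingleton.elim a b⟩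
    have : Nontrivial A := by
      by_contra hA
      rw [not_nontrivial_iff_subsingleton] at hA
      have := faithfulSMul_of_faithfullyFlat (R := R) A
      exact zero_ne_one (eq_of_smul_eq_smul (α := A) fun x => Subsingleton.elim ((0 : R) • x) ((1 : R) • x))
    have : Nontrivial (A ⊗[R] B) := inferInstance
    infer_instance
  let e := TensorProduct.tensorTensorTensorComm R A B Aᵐᵒᵖ Bᵐᵒᵖ
  let o : Aᵐᵒᵖ ⊗[R] Bᵐᵒᵖ ≃ₗ[R] (A ⊗[R] B)ᵐᵒᵖ :=
    TensorProduct.congr (opLinearEquiv R).symm (opLinearEquiv R).symm ≪≫ₗ opLinearEquiv R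
  let t : (A ⊗[R] Aᵐᵒᵖ) ⊗[R] (B ⊗[R] Bᵐᵒᵖ) ≃ₗ[R] (A ⊗[R] B) ⊗[R] (A ⊗[R] B)ᵐᵒᵖ :=
    TensorProduct.tensorTensorTensorComm R A Aᵐᵒᵖ B Bᵐᵒᵖ ≪≫ₗ
      TensorProduct.congr (LinearEquiv.refl R _) o
  let μA := LinearEquiv.ofBijective (AlgHom.mulLeftRight R A).toLinearMap IsAzumaya.bij
  let μB := LinearEquiv.ofBijective (AlgHom.mulLeftRight R B).toLinearMap IsAzumaya.bij
  have key : ∀ x, AlgHom.mulLeftRight R (A ⊗[R] B) (t x) =
      homTensorHomEquiv R A B A B (TensorProduct.congr μA μB x) := by
    intro x
    induction x using TensorProduct.induction_on with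
    | zero => simp
    | add x y hx hy => simp only [map_add, hx, hy]
    | tmul p q =>
      induction p using TensorProduct.induction_on with
      | zero => simp
      | add x y hx hy => simp only [TensorProduct.add_tmul, map_add, hx, hy]
      | tmul a a' =>
        induction q using TensorProduct.induction_on with
        | zero => simp
        | add x y hx hy => simp only [TensorProduct.tmul_add, map_add, hx, hy]
        | tmul b b' =>
          refine TensorProduct.ext' fun x y => ?_
          simp [t, o, μA, μB, AlgHom.mulLeftRight_apply, homTensorHomEquiv_apply]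
  refine ⟨?_⟩
  rw [← Function.Bijective.of_comp_iff _ t.bijective]
  rw [show ⇑(AlgHom.mulLeftRight R (A ⊗[R] B)) ∘ ⇑t =
    ⇑(homTensorHomEquiv R A B A B) ∘ ⇑(TensorProduct.congr μA μB) from funext key]
  exact (LinearEquiv.bijective _).comp (LinearEquiv.bijective _)

/-- Base change of a tensor product of algebras. -/
noncomputable def distribAlgEquiv (L : Type v) [CommRing L] [Algebra R L] :
    L ⊗[R] (A ⊗[R] B) ≃ₐ[L] (L ⊗[R] A) ⊗[L] (L ⊗[R] B) :=
  AlgEquiv.ofLinearEquiv (TensorProduct.AlgebraTensorModule.distribBaseChange R L A B)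
    (by simp [Algebra.TensorProduct.one_def])
    (by
      intro x y
      induction x using TensorProduct.induction_on with
      | zero => simp
      | add x₁ x₂ h₁ h₂ => simp only [map_add, add_mul, h₁, h₂]
      | tmul s p =>
        induction y using TensorProduct.induction_on with
        | zero => simp
        | add y₁ y₂ h₁ h₂ => simp only [map_add, mul_add, h₁, h₂]
        | tmul s' p' =>
          induction p using TensorProduct.induction_on with
          | zero => simp
          | add x₁ x₂ h₁ h₂ => simp only [TensorProduct.tmul_add, map_add, add_mul, h₁, h₂]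
          | tmul a b =>
            induction p' using TensorProduct.induction_on with
            | zero => simp
            | add x₁ x₂ h₁ h₂ => simp only [TensorProduct.tmul_add, map_add, mul_add, h₁, h₂]
            | tmul a' b' => simp [Algebra.TensorProduct.tmul_mul_tmul])

theorem isAzumaya_tensor [IsAzumaya R A] [IsAzumaya R B] : IsAzumaya R (A ⊗[R] B) := by
  refine isAzumaya_of_forall_maximal.{u, u, max w w'} R (A ⊗[R] B) fun m hm => ?_
  let := Ideal.Quotient.field m
  refine ⟨R ⧸ m, inferInstance, inferInstance, inferInstance, (Ideal.mk_ker).ge, ?_⟩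
  have := isAzumaya_baseChange R (R ⧸ m) A
  have := isAzumaya_baseChange R (R ⧸ m) B
  have := isAzumaya_tensor_of_free (R ⧸ m) ((R ⧸ m) ⊗[R] A) ((R ⧸ m) ⊗[R] B)
  exact IsAzumaya.of_AlgEquiv (R ⧸ m) _ _ (distribAlgEquiv R A B (R ⧸ m)).symm

theorem isAzumaya_end (P : Type w) [AddCommGroup P] [Module R P] [Module.Finite R P]
    [Module.Projective R P] [FaithfulSMul R P] : IsAzumaya R (Module.End R P) := by
  obtain ⟨hf, hp⟩ := finite_projective_end R P
  refine isAzumaya_of_forall_maximal.{u, u, w} R (Module.End R P) fun m hm => ?_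
  let := Ideal.Quotient.field m
  refine ⟨R ⧸ m, inferInstance, inferInstance, inferInstance, (Ideal.mk_ker).ge, ?_⟩
  have := faithfullyFlat_of_faithfulSMul (R := R) P
  have : Nontrivial ((R ⧸ m) ⊗[R] P) := inferInstance
  let b := Module.Free.chooseBasis (R ⧸ m) ((R ⧸ m) ⊗[R] P)
  have : Nonempty (Module.Free.ChooseBasisIndex (R ⧸ m) ((R ⧸ m) ⊗[R] P)) := b.index_nonempty
  have e₁ : (R ⧸ m) ⊗[R] Module.End R P ≃ₐ[R ⧸ m] Module.End (R ⧸ m) ((R ⧸ m) ⊗[R] P) :=
    AlgEquiv.ofBijective (LinearMap.tensorProductEnd R (R ⧸ m) P)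
      (bijective_tensorProductEnd R (R ⧸ m) P)
  classical
  have := IsAzumaya.matrix (R ⧸ m) (Module.Free.ChooseBasisIndex (R ⧸ m) ((R ⧸ m) ⊗[R] P))
  exact IsAzumaya.of_AlgEquiv (R ⧸ m) _ _ ((LinearMap.toMatrixAlgEquiv b).symm.trans e₁.symm)

end GrothLib.Azu
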