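import Groth.Agent.Lib.Azumaya.Basic

set_option autoImplicit false

/-!
# Base change of Azumaya algebras, descent along surjective maps of spectra
-/

universe u v w w'

open scoped TensorProduct
open MulOpposite

namespace GrothLib.Azu

variable (R : Type u) [CommRing R] (S : Type v) [CommRing S] [Algebra R S]
  (A : Type w) [Ring A] [Algebra R A]

/-- `S ⊗ (A ⊗ Aᵒᵖ) ≅ (S ⊗ A) ⊗_S (S ⊗ A)ᵒᵖ` as `S`-modules. -/
noncomputable def psi : S ⊗[R] (A ⊗[R] Aᵐᵒᵖ) ≃ₗ[S] (S ⊗[R] A) ⊗[S] (S ⊗[R] A)ᵐᵒᵖ :=
  TensorProduct.AlgebraTensorModule.distribBaseChange R S A Aᵐᵒᵖ ≪≫ₗ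
    TensorProduct.congr (LinearEquiv.refl S _)
      ((LinearEquiv.baseChange R S _ _ (opLinearEquiv R (M := A)).symm) ≪≫ₗ opLinearEquiv S)

@[simp]
theorem psi_tmul (s : S) (a : A) (b : Aᵐᵒᵖ) :
    psi R S A (s ⊗ₜ (a ⊗ₜ b)) = (s ⊗ₜ a) ⊗ₜ op ((1 : S) ⊗ₜ b.unop) := by
  simp [psi]

theorem mulLeftRight_psi (x : S ⊗[R] (A ⊗[R] Aᵐᵒᵖ)) :
    AlgHom.mulLeftRight S (S ⊗[R] A) (psi R S A x) =
      LinearMap.tensorProduct R S A A ((AlgHom.mulLeftRight R A).toLinearMap.baseChange S x) := by
  induction x using TensorProduct.induction_on with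
  | zero => simp
  | add x y hx hy => rw [map_add, map_add, map_add, map_add, hx, hy]
  | tmul s y =>
    induction y using TensorProduct.induction_on with
    | zero => simp
    | add y z hy hz => rw [TensorProduct.tmul_add, map_add, map_add, map_add, map_add, hy, hz]
    | tmul a b =>
      refine TensorProduct.AlgebraTensorModule.ext fun t x => ?_
      rw [psi_tmul, AlgHom.mulLeftRight_apply]
      simp [LinearMap.tensorProduct, TensorProduct.smul_tmul']

theorem bij_baseChange_iff [Module.Finite R A] [Module.Projective R A] :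
    Function.Bijective (AlgHom.mulLeftRight S (S ⊗[R] A)) ↔
      Function.Bijective ((AlgHom.mulLeftRight R A).toLinearMap.baseChange S) := by
  have h : ⇑(AlgHom.mulLeftRight S (S ⊗[R] A)) ∘ psi R S A =
      ⇑(LinearMap.tensorProduct R S A A) ∘ ((AlgHom.mulLeftRight R A).toLinearMap.baseChange S) :=
    funext (mulLeftRight_psi R S A)
  rw [← Function.Bijective.of_comp_iff (AlgHom.mulLeftRight S (S ⊗[R] A)) (psi R S A).bijective, h]
  exact Function.Bijective.of_comp_iff' (bijective_tensorProductEnd R S A) _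

theorem faithfullyFlat_of_isAzumaya [IsAzumaya R A] : Module.FaithfullyFlat R A :=
  faithfullyFlat_of_faithfulSMul A

theorem isAzumaya_baseChange [IsAzumaya R A] : IsAzumaya S (S ⊗[R] A) := by
  have := faithfullyFlat_of_isAzumaya R A
  have := faithfulSMul_of_faithfullyFlat (R := S) (S ⊗[R] A)
  exact ⟨(bij_baseChange_iff R S A).2
    (((AlgEquiv.ofBijective (AlgHom.mulLeftRight R A) IsAzumaya.bij).toLinearEquiv.baseChange
      R S _ _).bijective)⟩

theorem finite_tensor_mop [Module.Finite R A] : Module.Finite R (A ⊗[R] Aᵐᵒᵖ) := by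
  have : Module.Finite R Aᵐᵒᵖ := Module.Finite.equiv (opLinearEquiv R)
  infer_instance

/-- Descent along a map whose image meets every maximal ideal. -/
theorem isAzumaya_of_baseChange_of_exists_comap [Module.Finite R A] [Module.Projective R A]
    [IsAzumaya S (S ⊗[R] A)]
    (h : ∀ m : Ideal R, m.IsMaximal → ∃ q : Ideal S, q ≠ ⊤ ∧ m ≤ q.comap (algebraMap R S)) :
    IsAzumaya R A := by
  have := faithfullyFlat_of_isAzumaya S (S ⊗[R] A)
  have : Module.FaithfullyFlat R A := by
    refine ⟨fun {m} hm htop => ?_⟩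
    obtain ⟨q, hq, hmq⟩ := h m hm
    obtain ⟨q', hq', hqq'⟩ := Ideal.exists_le_maximal q hq
    refine Module.FaithfullyFlat.submodule_ne_top (M := S ⊗[R] A) hq' (eq_top_iff.2 fun z _ => ?_)
    induction z using TensorProduct.induction_on with
    | zero => exact zero_mem _
    | add x y hx hy => exact add_mem (hx trivial) (hy trivial)
    | tmul s a =>
      clear * - htop hmq hqq'
      have ha : a ∈ m • (⊤ : Submodule R A) := by rw [htop]; trivial
      induction ha using Submodule.smul_induction_on' with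
      | smul r hr x _ =>
        rw [TensorProduct.tmul_smul, ← algebraMap_smul S r (s ⊗ₜ[R] x)]
        exact Submodule.smul_mem_smul (hqq' (hmq hr)) trivial
      | add x _ y _ hx hy => rw [TensorProduct.tmul_add]; exact add_mem hx hy
  have := faithfulSMul_of_faithfullyFlat (R := R) A
  have := finite_tensor_mop R A
  obtain ⟨hf, hp⟩ := finite_projective_end R A
  refine ⟨bijective_of_forall_maximal.{u, w, w, v} (AlgHom.mulLeftRight R A).toLinearMap
    fun m hm => ?_⟩
  obtain ⟨q, hq, hmq⟩ := h m hm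
  refine ⟨S ⧸ q, inferInstance, inferInstance, Ideal.Quotient.nontrivial_iff.2 hq, ?_, ?_⟩
  · intro r hr
    exact Ideal.Quotient.eq_zero_iff_mem.2 (hmq hr)
  · have hS := (bij_baseChange_iff R S A).1 IsAzumaya.bij
    let e := (LinearEquiv.ofBijective _ hS).baseChange S (S ⧸ q) _ _
    have : ⇑((AlgHom.mulLeftRight R A).toLinearMap.baseChange (S ⧸ q)) =
        ⇑(TensorProduct.AlgebraTensorModule.cancelBaseChange R S (S ⧸ q) (S ⧸ q) (Module.End R A)) ∘
          e ∘ (TensorProduct.AlgebraTensorModule.cancelBaseChange R S (S ⧸ q) (S ⧸ q)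
            (A ⊗[R] Aᵐᵒᵖ)).symm := by
      funext x
      induction x using TensorProduct.induction_on with
      | zero => simp
      | tmul c y => simp [e]
      | add x y hx hy => simp only [Function.comp_apply, map_add] at *; rw [hx, hy]
    rw [this]
    exact (LinearEquiv.bijective _).comp ((LinearEquiv.bijective _).comp (LinearEquiv.bijective _))

theorem isAzumaya_of_baseChange_of_comap_surjective [Module.Finite R A] [Module.Projective R A]
    [IsAzumaya S (S ⊗[R] A)]
    (hS : Function.Surjective (PrimeSpectrum.comap (algebraMap R S))) : IsAzumaya R A :=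
  isAzumaya_of_baseChange_of_exists_comap R S A fun m hm => by
    obtain ⟨q, hq⟩ := hS ⟨m, hm.isPrime⟩
    exact ⟨q.asIdeal, q.isPrime.ne_top, le_of_eq (congrArg PrimeSpectrum.asIdeal hq).symm⟩

theorem isAzumaya_of_baseChange_of_faithfullyFlat [Module.FaithfullyFlat R S]
    [IsAzumaya S (S ⊗[R] A)] : IsAzumaya R A := by
  obtain ⟨h1, h2⟩ := finite_projective_of_baseChange (R := R) S A
  refine isAzumaya_of_baseChange_of_exists_comap R S A fun m hm =>
    ⟨m.map (algebraMap R S), ?_, Ideal.le_comap_map⟩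
  intro htop
  refine Module.FaithfullyFlat.submodule_ne_top (M := S) hm ?_
  rw [Ideal.smul_top_eq_map, htop, Submodule.restrictScalars_top]

end GrothLib.Azu
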