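import Mathlib.Algebra.Azumaya.Basic
import Mathlib.RingTheory.TensorProduct.Maps
import Mathlib.RingTheory.Flat.FaithfullyFlat.Basic
import Mathlib.RingTheory.Finiteness.Projective
import Mathlib.RingTheory.Finiteness.Descent
import Mathlib.RingTheory.Flat.EquationalCriterion
import Mathlib.RingTheory.Nakayama
import Mathlib.LinearAlgebra.TensorProduct.Tower
import Mathlib.LinearAlgebra.Dual.Lemmas
import Mathlib.LinearAlgebra.FreeModule.Finite.Matrix

set_option autoImplicit false

/-!
# Azumaya algebras: base change, descent, fibre criteria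
-/

universe u v w w'

open scoped TensorProduct
open MulOpposite

namespace GrothLib.Azu

section Bij

variable {R : Type u} [CommRing R]

/-- A finite module killed at every maximal ideal (tested on any nonzero algebra over the residue
field) is zero. -/
theorem subsingleton_of_forall_maximal {K : Type v} [AddCommGroup K] [Module R K] [Module.Finite R K]
    (h : ∀ (m : Ideal R), m.IsMaximal → ∀ x : K, (1 : R ⧸ m) ⊗ₜ[R] x = 0) : Subsingleton K := by
  have hann : (⊤ : Submodule R K).annihilator = ⊤ := by
    by_contra hne
    obtain ⟨m, hm, hle⟩ := Ideal.exists_le_maximal _ hne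
    have h1 : (⊤ : Submodule R K) ≤ m • (⊤ : Submodule R K) := by
      intro x _
      have := congrArg (TensorProduct.quotTensorEquivQuotSMul K m) (h m hm x)
      rw [map_zero, show (1 : R ⧸ m) = Ideal.Quotient.mk m 1 from rfl, TensorProduct.quotTensorEquivQuotSMul_mk_tmul, one_smul,
        Submodule.Quotient.mk_eq_zero] at this
      exact this
    obtain ⟨r, hr, hr0⟩ :=
      Submodule.exists_sub_one_mem_and_smul_eq_zero_of_fg_of_le_smul m ⊤ Module.Finite.fg_top h1
    have hrm : r ∈ m := hle (Submodule.mem_annihilator.2 hr0)
    exact hm.ne_top ((Ideal.eq_top_iff_one _).2 (by simpa using m.sub_mem hrm hr))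
  refine ⟨fun x y => ?_⟩
  rw [Submodule.annihilator_eq_top_iff] at hann
  exact ((Submodule.mem_bot R).1 (hann ▸ Submodule.mem_top)).trans
    ((Submodule.mem_bot R).1 (hann ▸ Submodule.mem_top)).symm

/-- If some nonzero algebra over `R ⧸ m` kills `1 ⊗ x` for all `x`, so does `R ⧸ m`. -/
theorem one_tmul_eq_zero_of_algebra {K : Type v} [AddCommGroup K] [Module R K]
    (m : Ideal R) [m.IsMaximal] (L : Type w) [CommRing L] [Algebra R L] [Nontrivial L]
    (hmL : m ≤ RingHom.ker (algebraMap R L)) (x : K) (hx : (1 : L) ⊗ₜ[R] x = 0) :
    (1 : R ⧸ m) ⊗ₜ[R] x = 0 := by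
  let := Ideal.Quotient.field m
  by_contra hne
  obtain ⟨φ, hφ⟩ := Module.Projective.exists_dual_ne_zero (R ⧸ m) hne
  let j : R ⧸ m →ₐ[R] L := Ideal.Quotient.liftₐ m (Algebra.ofId R L) hmL
  let ψ : K →ₗ[R] L :=
    j.toLinearMap ∘ₗ φ.restrictScalars R ∘ₗ TensorProduct.mk R (R ⧸ m) K 1
  have h0 := congrArg (TensorProduct.lift ((LinearMap.mul R L).compl₂ ψ)) hx
  simp [ψ] at h0
  exact hφ h0

/-- A map from a finite module to a finite projective module is bijective iff it is so at every
maximal ideal (tested on any nonzero algebra over the residue field). -/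
theorem bijective_of_forall_maximal {M : Type v} {N : Type w} [AddCommGroup M] [Module R M]
    [Module.Finite R M] [AddCommGroup N] [Module R N] [Module.Finite R N] [Module.Projective R N]
    (f : M →ₗ[R] N)
    (h : ∀ (m : Ideal R), m.IsMaximal → ∃ (L : Type w') (_ : CommRing L) (_ : Algebra R L),
      Nontrivial L ∧ m ≤ RingHom.ker (algebraMap R L) ∧ Function.Bijective (f.baseChange L)) :
    Function.Bijective f := by
  have hsurj : Function.Surjective f := by
    rw [← LinearMap.range_eq_top]
    by_contra hne
    have : Subsingleton (N ⧸ LinearMap.range f) := by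
      refine subsingleton_of_forall_maximal (R := R) fun m hm y => ?_
      obtain ⟨L, _, _, _, hmL, hb⟩ := h m hm
      refine one_tmul_eq_zero_of_algebra m L hmL y ?_
      obtain ⟨n, rfl⟩ := Submodule.Quotient.mk_surjective _ y
      obtain ⟨z, hz⟩ := hb.2 ((1 : L) ⊗ₜ[R] n)
      have h2 := congrArg ((LinearMap.range f).mkQ.baseChange L) hz
      rw [← LinearMap.comp_apply, ← LinearMap.baseChange_comp,
        LinearMap.range_mkQ_comp, LinearMap.baseChange_zero, LinearMap.zero_apply,
        LinearMap.baseChange_tmul] at h2
      exact h2.symm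
    exact hne (Submodule.Quotient.subsingleton_iff.1 this)
  refine ⟨?_, hsurj⟩
  obtain ⟨s, hs⟩ := Module.projective_lifting_property f LinearMap.id hsurj
  let π : M →ₗ[R] LinearMap.range (LinearMap.id - s ∘ₗ f) := LinearMap.rangeRestrict _
  have : Subsingleton (LinearMap.range (LinearMap.id - s ∘ₗ f)) := by
    refine subsingleton_of_forall_maximal (R := R) fun m hm y => ?_
    obtain ⟨L, _, _, _, hmL, hb⟩ := h m hm
    refine one_tmul_eq_zero_of_algebra m L hmL y ?_
    obtain ⟨x, rfl⟩ := LinearMap.surjective_rangeRestrict _ y
    have h1 : (f.baseChange L) ((1 : L) ⊗ₜ[R] ((LinearMap.id - s ∘ₗ f : M →ₗ[R] M) x)) = 0 := by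
      have hfs : f (s (f x)) = f x := LinearMap.congr_fun hs (f x)
      simp [hfs]
    have h2 := congrArg (π.baseChange L) (hb.1 (h1.trans (map_zero _).symm))
    rw [map_zero, LinearMap.baseChange_tmul] at h2
    have hfix : π ((LinearMap.id - s ∘ₗ f : M →ₗ[R] M) x) = (LinearMap.id - s ∘ₗ f).rangeRestrict x := by
      refine Subtype.ext ?_
      have hfs : f (s (f x)) = f x := LinearMap.congr_fun hs (f x)
      simp [π, hfs]
    rw [hfix] at h2
    exact h2
  intro x y hxy
  have hx := Subsingleton.elim ((LinearMap.id - s ∘ₗ f).rangeRestrict (x - y)) 0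
  have := congrArg Subtype.val hx
  simp [map_sub, hxy] at this
  exact sub_eq_zero.1 this

theorem faithfullyFlat_of_faithfulSMul (M : Type v) [AddCommGroup M] [Module R M]
    [Module.Finite R M] [Module.Flat R M] [FaithfulSMul R M] : Module.FaithfullyFlat R M := by
  refine ⟨fun {m} hm htop => ?_⟩
  obtain ⟨r, hr, hr0⟩ :=
    Submodule.exists_sub_one_mem_and_smul_eq_zero_of_fg_of_le_smul m ⊤ Module.Finite.fg_top
      htop.ge
  have : r = 0 := eq_of_smul_eq_smul (α := M) fun x => by
    rw [hr0 x Submodule.mem_top, zero_smul]
  subst this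
  exact hm.ne_top ((Ideal.eq_top_iff_one _).2 (by simpa using hr))

theorem faithfulSMul_of_faithfullyFlat (M : Type v) [AddCommGroup M] [Module R M]
    [Module.FaithfullyFlat R M] : FaithfulSMul R M := by
  refine ⟨fun {a b} h => ?_⟩
  have h0 : (LinearMap.lsmul R R (a - b)).lTensor M = 0 := by
    refine TensorProduct.ext' fun x r => ?_
    show x ⊗ₜ[R] ((a - b) • r) = 0
    rw [TensorProduct.tmul_smul, TensorProduct.smul_tmul', sub_smul, h x, sub_self,
      TensorProduct.zero_tmul]
  have := LinearMap.congr_fun
    ((Module.FaithfullyFlat.zero_iff_lTensor_zero R M _).2 h0) (1 : R)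
  simpa [sub_eq_zero] using this

/-- Finite projective descends along faithfully flat maps. -/
theorem finite_projective_of_baseChange (S : Type v) [CommRing S] [Algebra R S]
    [Module.FaithfullyFlat R S] (M : Type w) [AddCommGroup M] [Module R M]
    [Module.Finite S (S ⊗[R] M)] [Module.Projective S (S ⊗[R] M)] :
    Module.Finite R M ∧ Module.Projective R M := by
  have hfin : Module.Finite R M := Module.Finite.of_finite_tensorProduct_of_faithfullyFlat S
  have : Module.Flat R M := Module.Flat.of_flat_tensorProduct R M S
  refine ⟨hfin, ?_⟩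
  obtain ⟨n, f, hf⟩ := Module.Finite.exists_fin' R M
  have hK : Module.Finite R (LinearMap.ker f) := by
    suffices Module.Finite S (S ⊗[R] LinearMap.ker f) from
      Module.Finite.of_finite_tensorProduct_of_faithfullyFlat S
    have hsf : Function.Surjective (f.baseChange S) := by
      intro y
      obtain ⟨z, hz⟩ := LinearMap.lTensor_surjective S hf y
      exact ⟨z, hz⟩
    obtain ⟨s, hs⟩ := Module.projective_lifting_property (f.baseChange S) LinearMap.id hsf
    let ι := (LinearMap.ker f).subtype.baseChange S
    have hι : Function.Injective ι :=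
      Module.Flat.lTensor_preserves_injective_linearMap (LinearMap.ker f).subtype
        Subtype.val_injective
    have hex : Function.Exact ι (f.baseChange S) :=
      lTensor_exact S (LinearMap.exact_subtype_ker_map f) hf
    have hrange : LinearMap.range ι = LinearMap.range (LinearMap.id - s ∘ₗ f.baseChange S) := by
      refine le_antisymm ?_ ?_
      · rintro _ ⟨x, rfl⟩
        exact ⟨ι x, by simp [hex.apply_apply_eq_zero x]⟩
      · rintro _ ⟨x, rfl⟩
        refine (hex _).1 ?_
        have hfs : f.baseChange S (s (f.baseChange S x)) = f.baseChange S x :=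
          LinearMap.congr_fun hs _
        simp [hfs]
    have : Module.Finite S (LinearMap.range ι) := by
      rw [hrange]
      infer_instance
    exact Module.Finite.equiv (LinearEquiv.ofInjective ι hι).symm
  have : Module.FinitePresentation R M :=
    Module.finitePresentation_of_surjective f hf (Module.Finite.iff_fg.1 hK)
  exact Module.Flat.projective_of_finitePresentation

end Bij

section EndBaseChange

variable (R : Type u) [CommRing R] (S : Type v) [CommRing S] [Algebra R S]
  (M : Type w) [AddCommGroup M] [Module R M]

theorem finite_projective_end [Module.Finite R M] [Module.Projective R M] :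
    Module.Finite R (Module.End R M) ∧ Module.Projective R (Module.End R M) := by
  obtain ⟨n, p, i, -, -, hpi⟩ := Module.Finite.exists_comp_eq_id_of_projective R M
  let a : Module.End R M →ₗ[R] Module.End R (Fin n → R) :=
    (LinearMap.llcomp R (Fin n → R) M (Fin n → R) i).comp (LinearMap.lcomp R M p)
  let b : Module.End R (Fin n → R) →ₗ[R] Module.End R M :=
    (LinearMap.llcomp R M (Fin n → R) M p).comp (LinearMap.lcomp R (Fin n → R) i)
  have hba : b ∘ₗ a = LinearMap.id := by
    ext f x
    have h1 : ∀ y, p (i y) = y := LinearMap.congr_fun hpi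
    simp [a, b, h1]
  exact ⟨Module.Finite.of_surjective b (fun f => ⟨a f, LinearMap.congr_fun hba f⟩),
    Module.Projective.of_split a b hba⟩

/-- `End` commutes with base change for finite projective modules. -/
theorem bijective_tensorProductEnd [Module.Finite R M] [Module.Projective R M] :
    Function.Bijective (LinearMap.tensorProduct R S M M) := by
  obtain ⟨n, p, i, -, -, hpi⟩ := Module.Finite.exists_comp_eq_id_of_projective R M
  have h1 : ∀ y, p (i y) = y := LinearMap.congr_fun hpi
  let a : Module.End R M →ₗ[R] Module.End R (Fin n → R) :=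
    (LinearMap.llcomp R (Fin n → R) M (Fin n → R) i).comp (LinearMap.lcomp R M p)
  let b : Module.End R (Fin n → R) →ₗ[R] Module.End R M :=
    (LinearMap.llcomp R M (Fin n → R) M p).comp (LinearMap.lcomp R (Fin n → R) i)
  have hba : b ∘ₗ a = LinearMap.id := by
    ext f x
    simp [a, b, h1]
  have hfree : Function.Bijective (LinearMap.tensorProduct R S (Fin n → R) (Fin n → R)) := by
    have hbc := Module.isBaseChange_map_of_finite_free (R := R) (Fin n → R) S (Fin n)
    have : LinearMap.tensorProduct R S (Fin n → R) (Fin n → R) = hbc.equiv.toLinearMap := by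
      refine TensorProduct.AlgebraTensorModule.ext fun s f => ?_
      rw [LinearEquiv.coe_coe, hbc.equiv_tmul]
      simp [LinearMap.tensorProduct]
    rw [this]
    exact hbc.equiv.bijective
  have hnat : ∀ x : S ⊗[R] Module.End R M,
      LinearMap.tensorProduct R S (Fin n → R) (Fin n → R) (a.baseChange S x) =
        i.baseChange S ∘ₗ LinearMap.tensorProduct R S M M x ∘ₗ p.baseChange S := by
    intro x
    induction x using TensorProduct.induction_on with
    | zero => simp
    | tmul s f =>
      refine TensorProduct.AlgebraTensorModule.ext fun t v => ?_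
      simp [LinearMap.tensorProduct, a, TensorProduct.smul_tmul']
    | add x y hx hy => rw [map_add, map_add, map_add, hx, hy, LinearMap.add_comp, LinearMap.comp_add]
  have hnat' : ∀ x : S ⊗[R] Module.End R (Fin n → R),
      LinearMap.tensorProduct R S M M (b.baseChange S x) =
        p.baseChange S ∘ₗ LinearMap.tensorProduct R S (Fin n → R) (Fin n → R) x ∘ₗ
          i.baseChange S := by
    intro x
    induction x using TensorProduct.induction_on with
    | zero => simp
    | tmul s f =>
      refine TensorProduct.AlgebraTensorModule.ext fun t v => ?_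
      simp [LinearMap.tensorProduct, b, TensorProduct.smul_tmul']
    | add x y hx hy => rw [map_add, map_add, map_add, hx, hy, LinearMap.add_comp, LinearMap.comp_add]
  constructor
  · intro x y hxy
    have h2 : a.baseChange S x = a.baseChange S y := hfree.1 (by rw [hnat, hnat, hxy])
    have h3 := congrArg (b.baseChange S) h2
    simpa [← LinearMap.comp_apply, ← LinearMap.baseChange_comp, hba] using h3
  · intro g
    obtain ⟨y, hy⟩ := hfree.2 (i.baseChange S ∘ₗ g ∘ₗ p.baseChange S)
    refine ⟨b.baseChange S y, ?_⟩
    rw [hnat', hy]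
    refine LinearMap.ext fun z => ?_
    have hz : ∀ w : S ⊗[R] M, p.baseChange S (i.baseChange S w) = w := fun w => by
      rw [← LinearMap.comp_apply, ← LinearMap.baseChange_comp, hpi, LinearMap.baseChange_id,
        LinearMap.id_apply]
    simp [hz]

end EndBaseChange

end GrothLib.Azu
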